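import Cfsg.Agent.Chev.G2TwoU33.Data
import Cfsg.Agent.Chev.GoodAll
import Cfsg.Agent.Chev.Card
import Cfsg.Agent.Chev.OrdG2
import Cfsg.Agent.Chev.FieldFix
import Cfsg.Agent.U33Degrees.InvolAut

/-!
# The derived subgroup of `G₂(2)` is `PSU(3,3)`

Four elements of `G₂(2)` act on 63 vectors of the adjoint module as the generators of `PSU(3,3)` act
on 63 points. As the vectors span, the subgroup they generate is `PSU(3,3)`; it has index two.
-/

set_option autoImplicit false
set_option maxRecDepth 100000
set_option linter.style.haveILetI false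

namespace CfsgLib.Chev.G2TwoU33

open Cfsg.Lie Matrix
open CfsgLib.U33Deg (sigF sigP sigP_mem mkPt card_K)
open scoped MatrixGroups

/-- The coordinate index. -/
abbrev I : Type := chevG2.Idx

/-- The field with two elements. -/
abbrev R : Type := ZMod 2

/-- The position of a coordinate. -/
def pos : I → Nat
  | Sum.inl i => i.val
  | Sum.inr u => 2 + u.val

/-- One of the 63 vectors. -/
def vec (j : Fin 63) : I → R := fun i => if Nat.testBit (vecT.getD j.val 0) (pos i) then 1 else 0

/-- The action of a root element on the vectors. -/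
def pim (r : Nat) (j : Fin 63) : Fin 63 := mkPt ((permT.getD r []).getD j.val 0)

theorem root_act : ∀ r : Fin 12, ∀ j : Fin 63, ∀ i : I,
    (chevG2.xMat R r 1 *ᵥ vec j) i = vec (pim r.val j) i := by decide +kernel

theorem word_ok : ∀ l : Fin 4, ∀ j : Fin 63,
    ((wordT.getD l.val []).foldr (fun r k => pim r k) j) = sigF l j ∧
      ∀ r ∈ wordT.getD l.val [], r < 12 := by decide +kernel

theorem vec_injective : Function.Injective vec := by
  have h : ∀ a b : Fin 63, (∀ i : I, vec a i = vec b i) → a = b := by decide +kernel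
  exact fun a b e => h a b fun i => congrFun e i

theorem unit_sum : ∀ i k : I,
    (((combT.getD (pos i) []).map fun j => vec (mkPt j) k).sum) = if k = i then 1 else 0 := by
  decide +kernel

theorem spanning (M : Matrix I I R) (h : ∀ j, M *ᵥ vec j = vec j) : M = 1 := by
  have key : ∀ l : List Nat, M *ᵥ (fun k => (l.map fun j => vec (mkPt j) k).sum) =
      fun k => (l.map fun j => vec (mkPt j) k).sum := by
    intro l
    induction l with
    | nil => exact mulVec_zero M
    | cons a l ih =>
      simp only [List.map_cons, List.sum_cons]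
      exact (mulVec_add M (vec (mkPt a)) _).trans (by rw [h, ih]; rfl)
  refine Matrix.ext fun r i => ?_
  have h1 := congrFun (key (combT.getD (pos i) [])) r
  simp only [unit_sum] at h1
  rw [one_apply, ← h1]
  simp [mulVec, dotProduct]

/-- A root element. -/
noncomputable def xg (r : Nat) : GL I R := good_G2.full.x r 1

/-- The four generators. -/
noncomputable def kg (l : Fin 4) : GL I R := ((wordT.getD l.val []).map xg).prod

theorem kg_mem (l : Fin 4) : kg l ∈ chevG2.group R :=
  list_prod_mem fun g hg => by
    obtain ⟨r, -, rfl⟩ := List.mem_map.mp hg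
    exact good_G2.x_mem_group _ _

theorem prod_act (w : List Nat) (hw : ∀ r ∈ w, r < 12) (j : Fin 63) :
    ((w.map xg).prod : GL I R).val *ᵥ vec j = vec (w.foldr (fun r k => pim r k) j) := by
  induction w with
  | nil => simp
  | cons r w ih =>
    have hr : r < 12 := hw r (List.mem_cons_self ..)
    rw [List.map_cons, List.prod_cons, Units.val_mul, ← mulVec_mulVec,
      ih fun a ha => hw a (List.mem_cons_of_mem _ ha), xg, Tab.Full.coe_x', ChevalleyDatum.x,
      dif_pos (show r < chevG2.nroots from hr), List.foldr_cons]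
    exact funext fun i => root_act ⟨r, hr⟩ _ i

theorem kg_act (l : Fin 4) (j : Fin 63) : (kg l).val *ᵥ vec j = vec (sigF l j) := by
  rw [kg, prod_act _ (word_ok l j).2, (word_ok l j).1]

/-- Pairs acting compatibly on the vectors and the points. -/
def compat : Subgroup (GL I R × Equiv.Perm (Fin 63)) where
  carrier := {x | ∀ j, x.1.val *ᵥ vec j = vec (x.2 j)}
  one_mem' := fun j => by simp
  mul_mem' := fun {x y} hx hy j => by
    show (x.1 * y.1).val *ᵥ vec j = vec (x.2 (y.2 j))
    rw [Units.val_mul, ← mulVec_mulVec, hy, hx]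
  inv_mem' := fun {x} hx j => by
    have h := hx (x.2⁻¹ j)
    rw [CfsgLib.U33Deg.papply] at h
    show (x.1⁻¹).val *ᵥ vec j = vec (x.2⁻¹ j)
    conv_lhs => rw [← h]
    rw [mulVec_mulVec, Units.inv_mul, one_mulVec]

/-- The paired generators. -/
def Γ : Subgroup (GL I R × Equiv.Perm (Fin 63)) :=
  Subgroup.closure (Set.range fun l => (kg l, sigP l))

theorem Γ_le : Γ ≤ compat := (Subgroup.closure_le _).mpr (by rintro _ ⟨l, rfl⟩; exact kg_act l)

/-- The subgroup generated by the four elements. -/
def Kg : Subgroup (GL I R) := Subgroup.closure (Set.range kg)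

theorem Kg_le : Kg ≤ chevG2.group R :=
  (Subgroup.closure_le _).mpr (by rintro _ ⟨l, rfl⟩; exact kg_mem l)

theorem nonempty_equiv : Nonempty (Kg ≃* CfsgLib.U33Deg.K) := by
  have h1 : Γ.map (MonoidHom.fst _ _) = Kg := by
    rw [Γ, MonoidHom.map_closure, ← Set.range_comp]; rfl
  have h2 : Γ.map (MonoidHom.snd _ _) = CfsgLib.U33Deg.K := by
    rw [Γ, MonoidHom.map_closure, ← Set.range_comp]; rfl
  have i1 : Function.Injective ((MonoidHom.fst _ _).comp Γ.subtype) := by
    refine (MonoidHom.ker_eq_bot_iff _).mp ((Subgroup.eq_bot_iff_forall _).mpr ?_)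
    rintro ⟨⟨g, s⟩, hx⟩ (hg : g = 1)
    subst hg
    have hs : s = 1 := Equiv.ext fun j => vec_injective (by
      have h := Γ_le hx j
      rw [Units.val_one, one_mulVec] at h
      exact h.symm)
    subst hs
    rfl
  have i2 : Function.Injective ((MonoidHom.snd _ _).comp Γ.subtype) := by
    refine (MonoidHom.ker_eq_bot_iff _).mp ((Subgroup.eq_bot_iff_forall _).mpr ?_)
    rintro ⟨⟨g, s⟩, hx⟩ (hs : s = 1)
    subst hs
    have hg : g = 1 := Units.ext (spanning g.val fun j => Γ_le hx j)
    subst hg
    rfl
  have r1 : ((MonoidHom.fst _ _).comp Γ.subtype).range = Kg := by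
    rw [MonoidHom.range_comp, Subgroup.range_subtype, h1]
  have r2 : ((MonoidHom.snd _ _).comp Γ.subtype).range = CfsgLib.U33Deg.K := by
    rw [MonoidHom.range_comp, Subgroup.range_subtype, h2]
  exact ⟨((MulEquiv.subgroupCongr r1).symm.trans (MonoidHom.ofInjective i1).symm).trans
    ((MonoidHom.ofInjective i2).trans (MulEquiv.subgroupCongr r2))⟩

theorem card_g2_two : Nat.card (chevG2.group R) = 12096 := by
  have h := CfsgLib.Chev.good_G2.card_group_eq (F := R) CfsgLib.Chev.G2Data.levels_ok
  have h2 := CfsgLib.Chev.good_G2.card_diagonal (F := R) CfsgLib.Chev.G2Data.smith_ok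
  rw [ZMod.card] at h h2
  have h3 : ((CfsgLib.Chev.G2Data.smith.d.map fun d => Nat.gcd (2 - 1) d).prod) = 1 := by
    decide +kernel
  rw [h3, one_mul] at h2
  rw [h, h2]
  decide +kernel

/-- The derived subgroup of `G₂(2)` over the field with two elements. -/
theorem commutator_equiv {L : Type*} [Field L] [Fintype L] (hL : Fintype.card L = 9) :
    Nonempty (commutator (chevG2.group R) ≃* Cfsg.PSU 3 L 3) := by
  obtain ⟨hcard, ⟨θ⟩⟩ := card_K hL
  obtain ⟨e⟩ := nonempty_equiv
  have hF' : Nat.card L = 3 ^ 2 := by rw [Nat.card_eq_fintype_card, hL]; rfl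
  haveI : IsSimpleGroup (Cfsg.PSU 3 L 3) :=
    CfsgLib.Unitary.isSimpleGroup_PSU hF' (by norm_num) (by norm_num)
  let H : Subgroup (chevG2.group R) := Kg.subgroupOf (chevG2.group R)
  let ψ : H ≃* Cfsg.PSU 3 L 3 := ((Subgroup.subgroupOfEquivOfLe Kg_le).trans e).trans θ.symm
  haveI : IsSimpleGroup H := ψ.isSimpleGroup
  have hH : Nat.card H = 6048 := by
    rw [Nat.card_congr ((Subgroup.subgroupOfEquivOfLe Kg_le).trans e).toEquiv, hcard]
  have hidx : H.index = 2 := by
    have h := H.card_mul_index
    rw [hH, card_g2_two] at h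
    omega
  haveI : H.Normal := Subgroup.normal_of_index_eq_two hidx
  have hle : commutator (chevG2.group R) ≤ H := by
    refine (Subgroup.Normal.quotient_commutative_iff_commutator_le).mp ?_
    haveI : Fact (Nat.Prime 2) := ⟨Nat.prime_two⟩
    have hc : IsCyclic (chevG2.group R ⧸ H) :=
      isCyclic_of_prime_card (p := 2) ((Subgroup.index_eq_card H).symm.trans hidx)
    exact hc.commutative
  have hperf : commutator H = ⊤ := by
    rcases (inferInstance : (commutator H).Normal).eq_bot_or_eq_top with h | h
    · exfalso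
      rw [commutator_eq_bot_iff_center_eq_top] at h
      letI : CommGroup H :=
        { (inferInstance : Group H) with
          mul_comm := fun a b => Subgroup.mem_center_iff.mp (h ▸ Subgroup.mem_top b) a }
      have hp : (Nat.card H).Prime := IsSimpleGroup.prime_card
      rw [hH] at hp
      norm_num at hp
    · exact h
  have hge : H ≤ commutator (chevG2.group R) := by
    have h := Subgroup.map_mono (f := H.subtype) hperf.ge
    rw [← MonoidHom.range_eq_map, Subgroup.range_subtype, commutator_def,
      Subgroup.map_commutator] at h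
    exact h.trans (Subgroup.commutator_mono le_top le_top)
  exact ⟨(MulEquiv.subgroupCongr (le_antisymm hle hge)).trans ψ⟩

/-- `G₂(2)' ≅ PSU(3,3)`. -/
theorem main {F L : Type*} [Field F] [Fintype F] [Field L] [Fintype L] (hF : Fintype.card F = 2)
    (hL : Fintype.card L = 9) :
    Nonempty (commutator (chevG2.group F) ≃* Cfsg.PSU 3 L 3) := by
  obtain ⟨e⟩ := commutator_equiv hL
  have f : R ≃+* F := FiniteField.ringEquivOfCardEq (by rw [ZMod.card, hF])
  let φ : chevG2.group R →* chevG2.group F :=
    MonoidHom.mk' (fun a => ⟨Tab.glMap chevG2 f.toRingHom a, good_G2.glMap_group _ a.2⟩)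
      fun a b => Subtype.ext (map_mul (Tab.glMap chevG2 f.toRingHom) _ _)
  have hb : Function.Bijective φ := by
    refine ⟨fun a b h => Subtype.ext (Tab.glMap_injective _ (congrArg Subtype.val h)),
      fun b => ⟨⟨Tab.glMap chevG2 f.symm.toRingHom b, good_G2.glMap_group _ b.2⟩, Subtype.ext ?_⟩⟩
    show Tab.glMap chevG2 f.toRingHom (Tab.glMap chevG2 f.symm.toRingHom b) = b
    exact Units.ext (Matrix.ext fun i j => f.apply_symm_apply _)
  let E := MulEquiv.ofBijective φ hb
  have hmap : (commutator (chevG2.group R)).map E.toMonoidHom = commutator (chevG2.group F) := by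
    rw [commutator_def, Subgroup.map_commutator, ← MonoidHom.range_eq_map,
      MonoidHom.range_eq_top_of_surjective E.toMonoidHom E.surjective, ← commutator_def]
  exact ⟨((MulEquiv.subgroupCongr hmap).symm.trans (E.subgroupMap _).symm).trans e⟩

end CfsgLib.Chev.G2TwoU33
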